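import Cfsg.Agent.Lib.CharTheory.Schur
import Cfsg.Agent.Lib.CharTheory.Irr

/-!
Counting factorisations with factors in two conjugation invariant sets.
-/

set_option autoImplicit false

namespace CfsgLib.ThreeCC.Wreath

open Cfsg CfsgLib.CharTheory
open scoped ComplexConjugate

universe u
variable {G : Type u} [Group G] [Fintype G]

/-- The number of factorisations `g = x y` with `x` in `A` and `y` in `B`. -/
theorem card_pairs_two [DecidableEq G] (A B : Finset G) (hA : ∀ x ∈ A, ∀ h : G, h * x * h⁻¹ ∈ A)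
    (hB : ∀ x ∈ B, ∀ h : G, h * x * h⁻¹ ∈ B) (g : G) :
    (Nat.card G : ℂ) * ((A.filter fun x => x⁻¹ * g ∈ B).card : ℂ) =
      ∑ χ : IrrCharacter G, (∑ x ∈ A, (χ : G → ℂ) x) * (∑ x ∈ B, (χ : G → ℂ) x) * conj ((χ : G → ℂ) g) /
        (χ : G → ℂ) 1 := by
  classical
  have h1 : ∀ x ∈ A, ∀ y ∈ B, (if x * y = g then (Nat.card G : ℂ) else 0) =
      ∑ χ : IrrCharacter G, (χ : G → ℂ) (x * y * g⁻¹) * (χ : G → ℂ) 1 := by
    intro x _ y _
    rw [sum_irr_apply_mul_degree]
    exact if_congr mul_inv_eq_one.symm rfl rfl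
  have h2 : (Nat.card G : ℂ) * ((A.filter fun x => x⁻¹ * g ∈ B).card : ℂ) =
      ∑ x ∈ A, ∑ y ∈ B, if x * y = g then (Nat.card G : ℂ) else 0 := by
    rw [← Finset.sum_boole, Finset.mul_sum]
    refine Finset.sum_congr rfl fun x _ => ?_
    rw [mul_ite, mul_one, mul_zero,
      Finset.sum_congr rfl fun y _ => if_congr (show x * y = g ↔ x⁻¹ * g = y from
        ⟨fun h => by rw [← h, inv_mul_cancel_left], fun h => by rw [← h, mul_inv_cancel_left]⟩) rfl rfl,
      Finset.sum_ite_eq]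
  rw [h2, Finset.sum_congr rfl fun x hx => (Finset.sum_congr rfl (h1 x hx)).trans Finset.sum_comm, Finset.sum_comm]
  refine Finset.sum_congr rfl fun χ _ => ?_
  obtain ⟨χ, n, ρ, hρ, rfl⟩ := χ
  haveI := hρ
  have hsum : ∀ (C : Finset G), (∀ x ∈ C, ∀ h : G, h * x * h⁻¹ ∈ C) →
      ∑ x ∈ C, ρ x = ((∑ x ∈ C, ρ.character x) / (n : ℂ)) • 1 := by
    intro C hC
    have h := sum_smul_eq_smul_one ρ (f := fun x => if x ∈ C then (1 : ℂ) else 0) fun x k => by
      refine if_congr ⟨fun h => ?_, fun h => hC x h k⟩ rfl rfl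
      simpa [mul_assoc] using hC _ h k⁻¹
    simpa [ite_smul, Finset.sum_ite_mem] using h
  have h3 : ∀ x y : G, ρ.character (x * y * g⁻¹) = LinearMap.trace ℂ _ (ρ x * ρ y * ρ g⁻¹) :=
    fun x y => by rw [← map_mul, ← map_mul]; rfl
  simp only [h3, ← Finset.sum_mul, ← map_sum]
  rw [← Finset.sum_mul_sum, hsum A hA, hsum B hB]
  simp only [smul_mul_assoc, one_mul, map_smul, smul_eq_mul]
  rw [show LinearMap.trace ℂ _ (ρ g⁻¹) = ρ.character g⁻¹ from rfl, ρ.char_one,
    char_apply_inv (isCharacter_character ρ), Module.finrank_fin_fun]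
  have hn : (n : ℂ) ≠ 0 := by
    have := irr_ne_zero (isIrrCharacter_character ρ)
    rwa [ρ.char_one, Module.finrank_fin_fun] at this
  field_simp

end CfsgLib.ThreeCC.Wreath
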